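import Groth.Agent.Proet.WCClopen
import Mathlib.CategoryTheory.Sites.Point.OfIsCofiltered
import Mathlib.CategoryTheory.Sites.Point.Conservative

/-!
# Points of the small pro-etale site

A point `c` of an affine weakly contractible object `V` of the small pro-etale site of `X` defines a
point of the site: the colimit of sections over the clopen neighbourhoods of `c` in `V`.  These
points form a conservative family.
-/

set_option autoImplicit false
universe u v w

open CategoryTheory CategoryTheory.Limits AlgebraicGeometry Opposite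

namespace K166.ProEtPt

open Scheme Groth.Agent.Proet.WCBasic Groth.Agent.Proet.WCClopen

variable {X : Scheme.{u}}

/-- Clopen neighbourhoods of a point. -/
abbrev Nbd (V : X.ProEt) (c : V.left) : Type u :=
  {T : V.left.Opens // IsClopen (T : Set V.left) ∧ c ∈ T}

set_option backward.isDefEq.respectTransparency.types false in
/-- Inclusion of open subobjects. -/
noncomputable def incl (V : X.ProEt) {T T' : V.left.Opens} (h : T ≤ T') :
    openObj V T ⟶ openObj V T' :=
  MorphismProperty.Over.homMk (V.left.homOfLE h) (by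
    change V.left.homOfLE h ≫ T'.ι ≫ V.hom = T.ι ≫ V.hom
    rw [← Category.assoc, Scheme.homOfLE_ι])

set_option backward.isDefEq.respectTransparency.types false in
theorem incl_openHom (V : X.ProEt) {T T' : V.left.Opens} (h : T ≤ T') :
    incl V h ≫ openHom V T' = openHom V T := by
  apply MorphismProperty.Over.Hom.ext
  exact Scheme.homOfLE_ι V.left h

set_option backward.isDefEq.respectTransparency.types false in
instance mono_openHom (V : X.ProEt) (T : V.left.Opens) : Mono (openHom V T) where
  right_cancellation {Z} a b h := by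
    have h1 : IsOpenImmersion (openHom V T).left := inferInstanceAs (IsOpenImmersion T.ι)
    exact hom_ext_of_mono (openHom V T) h

theorem incl_incl (V : X.ProEt) {T T' T'' : V.left.Opens} (h : T ≤ T') (h' : T' ≤ T'') :
    incl V h ≫ incl V h' = incl V (h.trans h') := by
  rw [← cancel_mono (openHom V T''), Category.assoc, incl_openHom, incl_openHom, incl_openHom]

theorem incl_refl (V : X.ProEt) (T : V.left.Opens) : incl V (le_refl T) = 𝟙 _ := by
  rw [← cancel_mono (openHom V T), incl_openHom, Category.id_comp]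

/-- The system of clopen neighbourhoods of a point. -/
noncomputable def sys (V : X.ProEt) (c : V.left) : Nbd V c ⥤ X.ProEt where
  obj T := openObj V T.1
  map f := incl V (leOfHom f)
  map_id T := incl_refl V T.1
  map_comp _ _ := (incl_incl V _ _).symm

instance (V : X.ProEt) (c : V.left) : Nonempty (Nbd V c) := ⟨⟨⊤, isClopen_univ, trivial⟩⟩

instance (V : X.ProEt) (c : V.left) : IsCofiltered (Nbd V c) :=
  have : IsCodirectedOrder (Nbd V c) := ⟨fun a b => ⟨⟨a.1 ⊓ b.1, a.2.1.inter b.2.1, a.2.2, b.2.2⟩,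
    (inf_le_left : a.1 ⊓ b.1 ≤ a.1), (inf_le_right : a.1 ⊓ b.1 ≤ b.1)⟩⟩
  isCofiltered_of_directed_ge_nonempty _


/-- A covering sieve of the clopen part `T` of `V` extends to a covering sieve of `V`. -/
def extSieve (V : X.ProEt) (T T' : V.left.Opens) (R : Sieve (openObj V T)) : Sieve V where
  arrows Y h := (∃ t : Y ⟶ openObj V T, t ≫ openHom V T = h ∧ R t) ∨
    ∃ t : Y ⟶ openObj V T', t ≫ openHom V T' = h
  downward_closed := by
    rintro Y Z h (⟨t, rfl, ht⟩ | ⟨t, rfl⟩) g
    · exact Or.inl ⟨g ≫ t, by rw [Category.assoc], R.downward_closed ht g⟩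
    · exact Or.inr ⟨g ≫ t, by rw [Category.assoc]⟩

theorem extSieve_mem (V : X.ProEt) (T T' : V.left.Opens) (hT : T ⊔ T' = ⊤) (R : Sieve (openObj V T))
    (hR : R ∈ Scheme.ProEt.topology X (openObj V T)) :
    extSieve V T T' R ∈ Scheme.ProEt.topology X V := by
  have h1 : Sieve.generate (Presieve.ofArrows (fun b : Bool => openObj V (if b then T else T'))
      (fun b : Bool => openHom V (if b then T else T'))) ∈ Scheme.ProEt.topology X V := by
    refine ofArrows_openImmersion_mem _
      (fun b => inferInstanceAs (IsOpenImmersion (Scheme.Opens.ι _))) fun x => ?_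
    have hx : x ∈ T ⊔ T' := by rw [hT]; trivial
    rcases hx with hx | hx
    · exact ⟨true, ⟨x, hx⟩, rfl⟩
    · exact ⟨false, ⟨x, hx⟩, rfl⟩
  refine (Scheme.ProEt.topology X).transitive h1 _ ?_
  rintro Y f ⟨_, k, _, ⟨b⟩, rfl⟩
  rw [Sieve.pullback_comp]
  apply (Scheme.ProEt.topology X).pullback_stable
  cases b with
  | true =>
    refine (Scheme.ProEt.topology X).superset_covering ?_ hR
    intro Z g hg
    exact Or.inl ⟨g, rfl, hg⟩
  | false =>
    refine (Scheme.ProEt.topology X).superset_covering ?_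
      ((Scheme.ProEt.topology X).top_mem (openObj V T'))
    intro Z g _
    exact Or.inr ⟨g, rfl⟩

/-- The lifting property of the system of clopen neighbourhoods. -/
theorem sys_lift {V : X.ProEt} [IsAffine V.left] (hV : ProEtS.IsWC V) (c : V.left)
    ⦃Z : X.ProEt⦄ (R : Sieve Z) (hR : R ∈ Scheme.ProEt.topology X Z) ⦃U : Nbd V c⦄
    (f : (sys V c).obj U ⟶ Z) :
    ∃ (Y : X.ProEt) (g : Y ⟶ Z) (_ : R g) (W : Nbd V c) (q : W ⟶ U) (a : (sys V c).obj W ⟶ Y),
      a ≫ g = (sys V c).map q ≫ f := by
  let T' : V.left.Opens := ⟨(U.1 : Set V.left)ᶜ, U.2.1.compl.isOpen⟩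
  have hT : U.1 ⊔ T' = ⊤ := by
    ext x
    simp [T']
  obtain ⟨n, W, hW, -, hcov, hk⟩ := exists_clopen_of_isWC hV
    (extSieve_mem V U.1 T' hT (R.pullback f) ((Scheme.ProEt.topology X).pullback_stable f hR))
  have hc : c ∈ ⋃ k, (W k : Set V.left) := by rw [hcov]; trivial
  obtain ⟨k, hck⟩ := Set.mem_iUnion.1 hc
  rcases hk k with ⟨t, ht, hRt⟩ | ⟨t, ht⟩
  · have hle : W k ≤ U.1 := by
      intro x hx
      have h1 : (t.left ⟨x, hx⟩ : ((U.1 : Scheme.{u}))).1 = x := by
        have h2 : t.left ≫ U.1.ι = (W k).ι := congrArg (fun φ => φ.left) ht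
        have h3 := congrArg (fun φ => φ.base ⟨x, hx⟩) h2
        exact h3
      rw [← h1]
      exact (t.left ⟨x, hx⟩ : ((U.1 : Scheme.{u}))).2
    refine ⟨openObj V (W k), t ≫ f, hRt, ⟨W k, hW k, hck⟩, homOfLE hle, 𝟙 _, ?_⟩
    have h1 : t = incl V hle := by
      rw [← cancel_mono (openHom V U.1), ht, incl_openHom V hle]
    rw [h1]
    exact Category.id_comp _
  · exfalso
    have h2 : t.left ≫ T'.ι = (W k).ι := congrArg (fun φ => φ.left) ht
    have h3 : (t.left ⟨c, hck⟩ : ((T' : Scheme.{u}))).1 = c :=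
      congrArg (fun φ => φ.base ⟨c, hck⟩) h2
    have h4 := (t.left ⟨c, hck⟩ : ((T' : Scheme.{u}))).2
    rw [h3] at h4
    exact h4 U.2.2

instance (V : X.ProEt) (c : V.left) : InitiallySmall.{u + 1} (Nbd V c) :=
  have : EssentiallySmall.{u + 1} (Nbd V c) := essentiallySmallSelf.{u + 1} (Nbd V c)
  initiallySmall_of_essentiallySmall _

/-- The point of the small pro-etale site given by a point of an affine weakly contractible
object. -/
noncomputable def pt {V : X.ProEt} [IsAffine V.left] (hV : ProEtS.IsWC V) (c : V.left) :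
    GrothendieckTopology.Point.{u + 1} (Scheme.ProEt.topology X) :=
  GrothendieckTopology.Point.ofIsCofiltered.{u + 1} (sys V c) (sys_lift hV c)


open GrothendieckTopology.Point in
/-- The lifting condition gives the covering condition. -/
theorem mem_of_pt {V : X.ProEt} [IsAffine V.left] (hV : ProEtS.IsWC V) {Z : X.ProEt} (g : V ⟶ Z)
    (S : Sieve Z)
    (hS : ∀ c : V.left, ∀ x : (pt hV c).fiber.obj Z, ∃ (Y : X.ProEt) (h : Y ⟶ Z) (_ : S h)
      (y : (pt hV c).fiber.obj Y), (pt hV c).fiber.map h y = x) :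
    S.pullback g ∈ Scheme.ProEt.topology X V := by
  have key : ∀ c : V.left, ∃ T : V.left.Opens, c ∈ T ∧ S (openHom V T ≫ g) := by
    intro c
    let top : Nbd V c := ⟨⊤, isClopen_univ, trivial⟩
    obtain ⟨Y, h, hh, y, hy⟩ := hS c
      (ofIsCofiltered.fiberMk.{u + 1} (p := sys V c) (U := top) (openHom V ⊤ ≫ g))
    obtain ⟨T, k, rfl⟩ := ofIsCofiltered.fiberMk_jointly_surjective.{u + 1} y
    have hy' : ofIsCofiltered.fiberMk.{u + 1} (p := sys V c) (U := T) (k ≫ h) =
        ofIsCofiltered.fiberMk.{u + 1} (p := sys V c) (U := T)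
          ((sys V c).map (homOfLE (show T ≤ top from le_top (a := T.1)) : T ⟶ top) ≫
            openHom V ⊤ ≫ g) := by
      rw [ofIsCofiltered.fiberMk_map_comp.{u + 1}, ← hy]
      exact (ofIsCofiltered.fiber_map_fiberMk.{u + 1} (p := sys V c) k h).symm
    obtain ⟨T', q, hq⟩ := ofIsCofiltered.exists_of_fiberMk_eq_fiberMk.{u + 1} hy'
    refine ⟨T'.1, T'.2.2, ?_⟩
    have h1 : (sys V c).map q ≫ (sys V c).map
        (homOfLE (show T ≤ top from le_top (a := T.1)) : T ⟶ top) ≫ openHom V ⊤ ≫ g =
        openHom V T'.1 ≫ g := by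
      change incl V _ ≫ incl V _ ≫ openHom V ⊤ ≫ g = _
      rw [← Category.assoc, ← Category.assoc, incl_incl, incl_openHom]
    rw [← h1, ← hq]
    rw [← Category.assoc]
    exact S.downward_closed hh _
  choose T hT hT' using key
  refine (Scheme.ProEt.topology X).superset_covering ?_ (ofArrows_openImmersion_mem
    (fun c : V.left => openHom V (T c)) (fun c => inferInstanceAs (IsOpenImmersion (T c).ι))
    fun x => ⟨x, ⟨x, hT x⟩, rfl⟩)
  rw [Sieve.generate_le_iff]
  rintro _ _ ⟨c⟩
  exact hT' c

end K166.ProEtPt
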